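import Cfsg.Agent.H72.Fi22C.Half
import Cfsg.Agent.H2.U6E.Ext
import Cfsg.Agent.H39.U6E.IndexTwo
import Cfsg.Agent.H33.U6E.Weak
import Cfsg.Agent.H33.U6E.CKill
import Cfsg.Agent.H64.U6E.Main
import Cfsg.Agent.H46.U6C.Fix8Main

/-!
A subgroup over `L`, free of `a`, which contains an element exchanging `a` and `az` has a subgroup
of index two over `L` meeting `C(z)` inside `L`.
-/

set_option autoImplicit false
set_option maxRecDepth 100000
set_option linter.unusedSectionVars false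

namespace H72.Fi22C

open H39.Fi22C

variable {G : Type*} [Group G] [Finite G] {F : Type*} [Field F] [Fintype F] {z a : G}
  {J H₀ L : Subgroup G} {π : ↥H₀ →* Cfsg.PSp 2 F}

/-- The part of `L` in the subgroup, read in `H₀`. -/
def toH₂ (h : Half z a H₀ L) (M : Subgroup G) :
    ↥((L ⊓ Subgroup.centralizer ({z} : Set G)).subgroupOf M) →* ↥H₀ where
  toFun g := ⟨g.1.1, h.inf_cent_le g.2⟩
  map_one' := rfl
  map_mul' _ _ := rfl

theorem half_two (S : Setup3 z a J H₀ π) (h : Half z a H₀ L) {M : Subgroup G} (hLM : L ≤ M)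
    (haM : a ∉ M) {c : G} (hcM : c ∈ M) (hcC : c ∈ Subgroup.centralizer ({z} : Set G))
    (hcH : c ∉ H₀) :
    ∃ N : Subgroup G, L ≤ N ∧
      N ⊓ Subgroup.centralizer ({z} : Set G) = L ⊓ Subgroup.centralizer ({z} : Set G) ∧
      ∀ l ∈ N, c⁻¹ * l * c ∈ N := by
  classical
  set C := Subgroup.centralizer ({z} : Set G) with hC
  have hzM : z ∈ M := hLM h.z_mem
  have hJM : J ⊓ L ≤ M := inf_le_right.trans hLM
  have hXM : L ⊓ C ≤ M := inf_le_left.trans hLM
  have hH0M : ∀ g ∈ H₀, g ∈ M → g ∈ L ⊓ C := by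
    intro g hg hgM
    refine ⟨?_, S.le_cent hg⟩
    rcases h.split g (h.le_cent_a hg) with e | e
    · exact e
    · refine absurd ?_ haM
      have := M.mul_mem (M.inv_mem hgM) (hLM e)
      rwa [inv_mul_cancel_left] at this
  set J' := (J ⊓ L).subgroupOf M with hJ'
  set H' := (L ⊓ C).subgroupOf M with hH'
  have hcard : Nat.card ↥(Subgroup.centralizer ({(⟨z, hzM⟩ : ↥M)} : Set ↥M)) =
      2 ^ 10 * 25920 := by
    have hidx : ((L ⊓ C).subgroupOf (M ⊓ C)).index = 2 := by
      rw [Subgroup.index_eq_two_iff]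
      refine ⟨⟨c, hcM, hcC⟩, fun b => ?_⟩
      simp only [Subgroup.mem_subgroupOf, Subgroup.coe_mul]
      by_cases hb : (b : G) ∈ L ⊓ C
      · refine Or.inr ⟨hb, fun e => hcH ?_⟩
        have := (L ⊓ C).mul_mem ((L ⊓ C).inv_mem hb) e
        rw [inv_mul_cancel_left] at this
        exact h.inf_cent_le this
      · exact Or.inl ⟨hH0M _ (S.out_mul b b.2.2 c hcC (fun e => hb (hH0M _ e b.2.1)) hcH)
          (M.mul_mem b.2.1 hcM), hb⟩
    have e := Subgroup.card_mul_index ((L ⊓ C).subgroupOf (M ⊓ C))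
    rw [hidx, Nat.card_congr (Subgroup.subgroupOfEquivOfLe
      (show L ⊓ C ≤ M ⊓ C from le_inf hXM inf_le_right)).toEquiv, h.card_X S] at e
    rw [show (2 : ℕ) ^ 10 * 25920 = 2 ^ 9 * 25920 * 2 by norm_num, e]
    exact Nat.card_congr
      { toFun := fun g => ⟨g.1.1, g.1.2, of_cent_sub _ g.2⟩
        invFun := fun g => ⟨⟨g.1, g.2.1⟩, mem_cent_sub _ g.2.2⟩
        left_inv := fun g => rfl
        right_inv := fun g => rfl }
  have B := h.base S (N := L) le_rfl rfl
  have hS : H2.U6E.Setup (⟨z, hzM⟩ : ↥M) J' H' (π.comp (toH₂ h M)) := by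
    refine
      { card_F := S.card_F
        sq := Subtype.ext S.sq
        ne_one := fun e => S.ne_one (congrArg Subtype.val e)
        le_cent := fun g hg => mem_cent_sub _ hg.2
        J_le := fun g hg => ⟨hg.2, S.le_cent (S.J_le hg.1)⟩
        z_mem := ⟨S.z_mem, h.z_mem⟩
        card_J := ?_
        conj_mem := ?_
        conj_H₀ := ?_
        out_mul := ?_
        sq_mem := fun p hp => (S.sq_mem p hp.1).imp (fun e => Subtype.ext e) (fun e => Subtype.ext e)
        comm_mem := fun p hp q hq => (S.comm_mem p hp.1 q hq.1).imp (fun e => Subtype.ext e)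
          (fun e => Subtype.ext e)
        center := ?_
        self_cent := ?_
        inner := ?_
        π_surj := ?_
        π_ker := fun g => (S.π_ker _).trans ⟨fun e => ⟨e, g.2.1⟩, fun e => e.1⟩
        card_cent := hcard
        card_H₀ := ?_
        card_psp := S.card_psp
        simple_psp := S.simple_psp }
    · rw [hJ', Nat.card_congr (Subgroup.subgroupOfEquivOfLe hJM).toEquiv, h.card_J S]
    · intro g hg j hj
      have hgC := of_cent_sub _ hg
      exact ⟨S.conj_mem g hgC j hj.1, h.normal S hgC ⟨hj.2, S.le_cent (S.J_le hj.1)⟩⟩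
    · intro g hg x hx
      have hgC := of_cent_sub _ hg
      exact ⟨h.normal S hgC hx, C.mul_mem (C.mul_mem hgC hx.2) (C.inv_mem hgC)⟩
    · intro g hg x hx hgn hxn
      exact hH0M _ (S.out_mul g (of_cent_sub _ hg) x (of_cent_sub _ hx)
        (fun e => hgn (hH0M _ e g.2)) (fun e => hxn (hH0M _ e x.2))) (M.mul_mem g.2 x.2)
    · intro p hp hc
      refine (B.center ⟨p, hp.2⟩ hp fun q hq => Subtype.ext
        (congrArg Subtype.val (hc ⟨q, hLM q.2⟩ hq).eq :)).imp (fun e => Subtype.ext ?_)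
        (fun e => Subtype.ext ?_)
      · exact (congrArg Subtype.val e :)
      · exact (congrArg Subtype.val e :)
    · intro g hg hc
      have hgC := of_cent_sub _ hg
      have hcg : ∀ p ∈ J ⊓ L, Commute (g : G) p := fun p hp =>
        (congrArg Subtype.val (hc ⟨p, hJM hp⟩ hp).eq :)
      have hgH : (g : G) ∈ H₀ := by
        refine S.inner g hgC fun x hx => ?_
        have hxC := S.le_cent hx
        have hw : (g : G) * x * (g : G)⁻¹ * x⁻¹ ∈ H₀ :=
          H₀.mul_mem (S.conj_H₀ g hgC x hx) (H₀.inv_mem hx)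
        set w := (g : G) * x * (g : G)⁻¹ * x⁻¹ with hwdef
        have hwp : ∀ p ∈ J ⊓ L, Commute w p := by
          intro p hp
          have hp' : x⁻¹ * p * x ∈ J ⊓ L := by
            have h1 := S.conj_mem x⁻¹ (C.inv_mem hxC) p hp.1
            have h2 := h.normal S (C.inv_mem hxC) ⟨hp.2, S.le_cent (S.J_le hp.1)⟩
            rw [inv_inv] at h1 h2
            exact ⟨h1, h2⟩
          have e1 : (g : G)⁻¹ * (x⁻¹ * p * x) * (g : G) = x⁻¹ * p * x := by
            rw [mul_assoc _ (x⁻¹ * p * x), ← (hcg _ hp').eq, inv_mul_cancel_left]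
          refine mul_inv_eq_iff_eq_mul.1 ?_
          calc w * p * w⁻¹
              = (g : G) * x * ((g : G)⁻¹ * (x⁻¹ * p * x) * (g : G)) * x⁻¹ * (g : G)⁻¹ := by
                rw [hwdef]; group
            _ = (g : G) * p * (g : G)⁻¹ := by rw [e1]; group
            _ = p := by rw [(hcg p hp).eq, mul_inv_cancel_right]
        refine S.self_cent w (S.le_cent hw) fun j hj => ?_
        rcases h.split j (h.le_cent_a (S.J_le hj)) with e | e
        · exact hwp j ⟨hj, e⟩
        · have := (hwp _ ⟨J.mul_mem hj S.a_mem, e⟩).mul_right (S.a_H₀ w hw).symm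
          rwa [mul_assoc, S.a_sq, mul_one] at this
      exact ⟨(B.self_cent ⟨g, (hH0M g hgH g.2).1⟩ (mem_cent_sub _ hgC) fun q hq => Subtype.ext
        (hcg q hq).eq).1, (hH0M g hgH g.2).1⟩
    · intro g hg hc
      have hgC := of_cent_sub _ hg
      refine hH0M g (S.inner g hgC fun x hx => ?_) g.2
      rcases h.split x (h.le_cent_a hx) with e | e
      · exact (hc ⟨x, hLM e⟩ ⟨e, S.le_cent hx⟩).1
      · have hxa : x * a ∈ L ⊓ C := ⟨e, C.mul_mem (S.le_cent hx) (S.le_cent (S.J_le S.a_mem))⟩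
        have h1 : (g : G) * (x * a) * (g : G)⁻¹ * (x * a)⁻¹ ∈ J := (hc ⟨_, hXM hxa⟩ hxa).1
        have h2 : (g : G) * x * (g : G)⁻¹ * x⁻¹ =
            (g : G) * (x * a) * (g : G)⁻¹ * (x * a)⁻¹ *
              (x * (a * ((g : G) * a * (g : G)⁻¹)⁻¹) * x⁻¹) := by group
        rw [h2]
        refine J.mul_mem h1 ?_
        rcases S.conj_a g hgC with eg | eg <;> rw [eg]
        · rw [mul_inv_cancel, mul_one, mul_inv_cancel]
          exact J.one_mem
        · have hza : Commute z a := Subgroup.mem_centralizer_iff.1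
            (S.le_cent (S.J_le S.a_mem)) z rfl
          have hzx : Commute z x := Subgroup.mem_centralizer_iff.1 (S.le_cent hx) z rfl
          rw [mul_inv_rev, ← mul_assoc a z⁻¹ a⁻¹, hza.inv_left.eq.symm, mul_inv_cancel_right,
            hzx.inv_left.eq.symm, mul_inv_cancel_right]
          exact J.inv_mem S.z_mem
    · intro p
      obtain ⟨g, hg⟩ := B.π_surj p
      exact ⟨⟨⟨g.1.1, hLM g.1.2⟩, g.1.2, of_cent_sub _ g.2⟩, hg⟩
    · rw [hH', Nat.card_congr (Subgroup.subgroupOfEquivOfLe hXM).toEquiv, h.card_X S]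
  obtain ⟨G₀, hidx, hi⟩ : ∃ G₀ : Subgroup ↥M, G₀.index = 2 ∧
      G₀ ⊓ Subgroup.centralizer ({(⟨z, hzM⟩ : ↥M)} : Set ↥M) = H' := by
    rcases H2.U6E.ext_dichotomy hS with ⟨φ, ρ, X, σ, γ, hp, t, d, ht, hd⟩ | ⟨U, hU⟩
    · have hw := H33.U6E.wcjTwo X
      exact H39.U6E.indexTwo X hw σ γ hp t d ht hd fun x hx =>
        H33.U6E.ckill X hw σ γ hp t d x ht hd hx
    · exact H64.U6E.indexTwoFixed H46.U6C.fix8 hS U hU
  refine ⟨G₀.map M.subtype, ?_, ?_, ?_⟩
  · intro l hl
    let P : ↥L → Prop := fun x => Subgroup.inclusion hLM x ∈ G₀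
    have h1 : P 1 := by simp [P]
    have hmul : ∀ x y, P (x * y) ↔ (P x ↔ P y) := fun x y => by
      simpa [P] using Subgroup.mul_mem_iff_of_index_two hidx
        (a := Subgroup.inclusion hLM x) (b := Subgroup.inclusion hLM y)
    have hm : (⟨l, hl⟩ : ↥L) ∈ (signHom P h1 hmul).ker :=
      Abelianization.commutator_subset_ker _ (h.perfect ▸ Subgroup.mem_top _)
    exact ⟨_, (signHom_eq_one (P := P) (h1 := h1) (hmul := hmul) hm : P ⟨l, hl⟩), rfl⟩
  · ext x
    constructor
    · rintro ⟨⟨y, hy, rfl⟩, hx⟩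
      have : y ∈ H' := hi.le ⟨hy, mem_cent_sub _ hx⟩
      exact this
    · intro hx
      exact ⟨⟨⟨x, hXM hx⟩, (hi.ge (show (⟨x, hXM hx⟩ : ↥M) ∈ H' from hx)).1, rfl⟩, hx.2⟩
  · rintro _ ⟨y, hy, rfl⟩
    haveI : G₀.Normal := Subgroup.normal_of_index_eq_two hidx
    exact ⟨⟨c, hcM⟩⁻¹ * y * ⟨c, hcM⟩, by
      simpa using Subgroup.Normal.conj_mem inferInstance y hy (⟨c, hcM⟩⁻¹ : ↥M), rfl⟩

end H72.Fi22C
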