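import Cfsg.Agent.H72.Fi22C.Transfer
import Cfsg.Agent.H72.Fi22C.Klein
import Cfsg.Agent.H50.Simple
import Cfsg.Agent.H2.U6E.Main
import Cfsg.Agent.S1713

/-!
The live swap case is the Fischer group: `C(a)` is quasisimple, since otherwise `C(a) = ⟨a⟩ × L` and
the transfer to `C(z)` modulo `C_L(z)` shows that `a` and `az` both centralise `L`.
-/

set_option autoImplicit false
set_option maxRecDepth 100000
set_option linter.unusedSectionVars false

open scoped commutatorElement

namespace H72.Fi22C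

open H39.Fi22C

variable {G : Type*} [Group G] [Finite G] {F : Type*} [Field F] [Fintype F] {z a : G}
  {J H₀ : Subgroup G} {π : ↥H₀ →* Cfsg.PSp 2 F}

theorem psu_six_simple {K : Type*} [Field K] [Fintype K] (hK : Fintype.card K = 4) :
    IsSimpleGroup (Cfsg.PSU 6 K 2) :=
  H50.PSU_isSimple (show Fintype.card K = 2 ^ 2 from hK) (by norm_num) (by norm_num)

theorem psu_six_center {K : Type*} [Field K] [Fintype K] (hK : Fintype.card K = 4) :
    Subgroup.center (Cfsg.PSU 6 K 2) = ⊥ := by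
  haveI := psu_six_simple hK
  refine (Subgroup.Normal.eq_bot_or_eq_top inferInstance).resolve_right fun htop => ?_
  letI : CommGroup (Cfsg.PSU 6 K 2) :=
    { (inferInstance : Group (Cfsg.PSU 6 K 2)) with
      mul_comm := fun a b => Subgroup.mem_center_iff.1 (by rw [htop]; trivial) a }
  have h := (IsSimpleGroup.prime_card (α := Cfsg.PSU 6 K 2))
  rw [card_psu_six hK] at h
  exact absurd h (by norm_num [show (9196830720 : ℕ) = 2 * 4598415360 from rfl, Nat.prime_mul_iff])

theorem swap_of_not_mem (S : Setup3 z a J H₀ π) (hsw : Swap z a) {g : G}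
    (hg : g ∈ Subgroup.centralizer ({z} : Set G)) (hn : g ∉ H₀) : g * a * g⁻¹ = a * z := by
  refine (S.conj_a g hg).resolve_left fun e => ?_
  obtain ⟨g₀, hg₀, e₀⟩ := hsw
  have hn₀ : g₀ ∉ H₀ := fun hm => by
    rw [← (S.a_H₀ g₀ hm).eq, mul_inv_cancel_right] at e₀
    exact S.ne_one (left_eq_mul.1 e₀)
  have hm := S.a_H₀ _ (S.out_mul g hg g₀ hg₀ hn hn₀)
  have e1 : g * g₀ * a * (g * g₀)⁻¹ = a := by rw [← hm.eq, mul_inv_cancel_right]
  have e2 : g * g₀ * a * (g * g₀)⁻¹ = g * (g₀ * a * g₀⁻¹) * g⁻¹ := by group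
  rw [e2, e₀, show g * (a * z) * g⁻¹ = g * a * g⁻¹ * (g * z * g⁻¹) by group, e,
    (Subgroup.mem_centralizer_singleton_iff.1 hg : g * z = z * g), mul_inv_cancel_right] at e1
  exact S.ne_one (mul_eq_left.1 e1)

theorem cent_inf (S : Setup3 z a J H₀ π) (hsw : Swap z a) :
    Subgroup.centralizer ({a} : Set G) ⊓ Subgroup.centralizer ({z} : Set G) = H₀ := by
  refine le_antisymm (fun g hg => by_contra fun hn => ?_) fun g hg =>
    ⟨Subgroup.mem_centralizer_singleton_iff.2 (S.a_H₀ g hg).eq.symm, S.le_cent hg⟩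
  have e := swap_of_not_mem S hsw hg.2 hn
  rw [(Subgroup.mem_centralizer_singleton_iff.1 hg.1 : g * a = a * g), mul_inv_cancel_right] at e
  exact S.ne_one (left_eq_mul.1 e)

theorem not_conj (S : Setup3 z a J H₀ π)
    (hc : 9196830720 ≤ Nat.card ↥(Subgroup.centralizer ({a} : Set G))) : ¬ IsConj z a := by
  intro h
  obtain ⟨k, rfl⟩ := isConj_iff.1 h
  have hle : (Subgroup.centralizer ({k * z * k⁻¹} : Set G)).map
      (MulAut.conj k⁻¹).toMonoidHom ≤ Subgroup.centralizer ({z} : Set G) := by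
    rintro _ ⟨g, hg, rfl⟩
    refine Subgroup.mem_centralizer_singleton_iff.2 ?_
    have e := congrArg (fun x => k⁻¹ * x * k) (Subgroup.mem_centralizer_singleton_iff.1 hg)
    simpa [mul_assoc] using e
  have hle' := Subgroup.card_le_of_le hle
  rw [Subgroup.card_map_of_injective (MulAut.conj k⁻¹).injective, S.card_cent] at hle'
  omega

universe u v w

/-- The live swap case is the Fischer group. -/
theorem liveSwap : H39.Fi22C.LiveSwapStmt.{u, v, w} := by
  intro G _ _ F _ _ K _ _ hK z a J H₀ π S hsw hlive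
  classical
  obtain ⟨f, hf, hk⟩ := hlive
  obtain ⟨g₀, hg₀, hg₀a⟩ := id hsw
  haveI := psu_six_simple hK
  set C := Subgroup.centralizer ({z} : Set G) with hC
  have haC : a ∈ C := S.le_cent (S.J_le S.a_mem)
  have haa : a ∈ (Subgroup.centralizer ({a} : Set G)) := a_mem_cent
  have hinf := cent_inf S hsw
  have hH0a : H₀ ≤ (Subgroup.centralizer ({a} : Set G)) := hinf.ge.trans inf_le_left
  have hcardPSU := card_psu_six hK
  have hcardCa : 9196830720 ≤ Nat.card ↥(Subgroup.centralizer ({a} : Set G)) := hcardPSU ▸ Nat.card_le_card_of_surjective f hf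
  have hnc := not_conj S hcardCa
  have hfa : f ⟨a, haa⟩ = 1 := (hk _).2 (Or.inr rfl)
  have hcomm : commutator (Cfsg.PSU 6 K 2) = ⊤ := by
    rcases (inferInstance : IsSimpleGroup (Cfsg.PSU 6 K 2)).eq_bot_or_eq_top_of_normal
      (commutator (Cfsg.PSU 6 K 2)) inferInstance with e | e
    · rw [commutator_eq_bot_iff_center_eq_top, psu_six_center hK] at e
      exact absurd e bot_ne_top
    · exact e
  set D := commutator ↥(Subgroup.centralizer ({a} : Set G)) with hD
  have hDf : D.map f = ⊤ := by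
    rw [hD, commutator_def, Subgroup.map_commutator, Subgroup.map_top_of_surjective f hf,
      ← commutator_def, hcomm]
  have hsplit : ∀ g : ↥(Subgroup.centralizer ({a} : Set G)), g ∈ D ∨ g * ⟨a, haa⟩ ∈ D := by
    intro g
    obtain ⟨d, hd, e⟩ : f g ∈ D.map f := hDf ▸ Subgroup.mem_top _
    rcases (hk (d⁻¹ * g)).1 (by rw [map_mul, map_inv, e, inv_mul_cancel]) with e1 | e1
    · refine Or.inl ?_
      have : d⁻¹ * g = 1 := Subtype.ext e1
      rwa [← inv_mul_eq_one.1 this]
    · refine Or.inr ?_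
      have : d⁻¹ * g = ⟨a, haa⟩ := Subtype.ext e1
      rw [inv_mul_eq_iff_eq_mul.1 this, mul_assoc,
        show (⟨a, haa⟩ : ↥(Subgroup.centralizer ({a} : Set G))) * ⟨a, haa⟩ = 1 from Subtype.ext S.a_sq, mul_one]
      exact hd
  have hord : orderOf a = 2 := by
    haveI : Fact (Nat.Prime 2) := ⟨Nat.prime_two⟩
    exact orderOf_eq_prime (by rw [pow_two]; exact S.a_sq) S.a_out.1
  by_cases haD : (⟨a, haa⟩ : ↥(Subgroup.centralizer ({a} : Set G))) ∈ D
  · -- quasisimple
    have hDtop : D = ⊤ := eq_top_iff.2 fun g _ => (hsplit g).elim id fun h =>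
      (D.mul_mem_cancel_right haD).1 h
    have hcen : Subgroup.center ↥(Subgroup.centralizer ({a} : Set G)) = f.ker := by
      refine le_antisymm (fun g hg => ?_) fun g hg => Subgroup.mem_center_iff.2 fun y => ?_
      · have : f g ∈ Subgroup.center (Cfsg.PSU 6 K 2) := Subgroup.mem_center_iff.2 fun y => by
          obtain ⟨x, rfl⟩ := hf y
          rw [← map_mul, ← map_mul, Subgroup.mem_center_iff.1 hg x]
        rwa [psu_six_center hK, Subgroup.mem_bot] at this
      · refine Subtype.ext ?_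
        rcases (hk g).1 hg with e | e
        · simp [e]
        · show (y : G) * g = g * y
          rw [e]
          exact Subgroup.mem_centralizer_singleton_iff.1 y.2
    have hzp : (Subgroup.zpowers a).subgroupOf (Subgroup.centralizer ({a} : Set G)) = f.ker := by
      ext g
      rw [MonoidHom.mem_ker, hk, Subgroup.mem_subgroupOf]
      constructor
      · intro hg
        obtain ⟨n, hn⟩ := Subgroup.mem_zpowers_iff.1 hg
        rcases Int.even_or_odd' n with ⟨m, rfl | rfl⟩
        · left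
          rw [← hn, zpow_mul, zpow_two, S.a_sq, one_zpow]
        · right
          rw [← hn, zpow_add, zpow_mul, zpow_two, S.a_sq, one_zpow, one_mul, zpow_one]
      · rintro (e | e) <;> rw [e]
        · exact one_mem _
        · exact Subgroup.mem_zpowers a
    have hq : Cfsg.IsQuasisimple ↥(Subgroup.centralizer ({a} : Set G)) :=
      ⟨⟨hDtop⟩, ((QuotientGroup.quotientMulEquivOfEq hcen).trans
        (QuotientGroup.quotientKerEquivOfSurjective f hf)).isSimpleGroup⟩
    haveI : ((Subgroup.zpowers a).subgroupOf (Subgroup.centralizer ({a} : Set G))).Normal := hzp ▸ MonoidHom.normal_ker f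
    haveI : Fintype (GaloisField 2 2) := Fintype.ofFinite _
    have hK0 : Fintype.card (GaloisField 2 2) = 4 := by
      rw [← Nat.card_eq_fintype_card, GaloisField.card 2 2 two_ne_zero]
      norm_num
    obtain ⟨e₀⟩ := H2.U6E.psu_congr hK hK0
    refine Cfsg.Agent.S1713.result a hord hq (GaloisField 2 2) hK0
      (((QuotientGroup.quotientMulEquivOfEq hzp).trans
        (QuotientGroup.quotientKerEquivOfSurjective f hf)).trans e₀) ⟨g₀, ?_, ?_⟩
    · rw [hg₀a]
      exact hH0a (H₀.mul_mem (S.J_le S.a_mem) (S.J_le S.z_mem))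
    · rw [hg₀a]
      exact fun e => S.ne_one (mul_eq_left.1 e)
  exfalso
  -- the simple half
  set L := D.map (Subgroup.centralizer ({a} : Set G)).subtype with hL
  have hLCa : L ≤ (Subgroup.centralizer ({a} : Set G)) := Subgroup.map_subtype_le D
  have hmemL : ∀ {g : ↥(Subgroup.centralizer ({a} : Set G))}, (g : G) ∈ L → g ∈ D := fun {g} hg => by
    obtain ⟨d, hd, e⟩ := hg
    rwa [← Subtype.ext e]
  have haL : a ∉ L := fun hm => haD (hmemL (g := ⟨a, haa⟩) hm)
  have hsplitL : ∀ g ∈ (Subgroup.centralizer ({a} : Set G)), g ∈ L ∨ g * a ∈ L := fun g hg =>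
    (hsplit ⟨g, hg⟩).imp (fun e => ⟨_, e, rfl⟩) fun e => ⟨_, e, rfl⟩
  let fL : ↥L →* Cfsg.PSU 6 K 2 := f.comp (Subgroup.inclusion hLCa)
  have hinj : Function.Injective fL := (injective_iff_map_eq_one _).2 fun x hx => by
    rcases (hk _).1 hx with e | e
    · exact Subtype.ext e
    · exact absurd (show (x : G) = a from e) fun e' => haL (e' ▸ x.2)
  have hsurj : Function.Surjective fL := fun y => by
    obtain ⟨d, hd, rfl⟩ : y ∈ D.map f := hDf ▸ Subgroup.mem_top _
    exact ⟨⟨d, d, hd, rfl⟩, rfl⟩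
  let eL : ↥L ≃* Cfsg.PSU 6 K 2 := MulEquiv.ofBijective fL ⟨hinj, hsurj⟩
  have hzL : z ∈ L := by
    obtain ⟨p, hp, q, hq, hne⟩ : ∃ p ∈ J, ∃ q ∈ J, p * q ≠ q * p := by
      by_contra! hc
      have hsub : (J : Set G) ⊆ {1, z, a, a * z} := fun p hp => by
        rcases S.center p hp fun q hq => hc p hp q hq with e | e | e | e <;> simp [e]
      have h4 := Set.ncard_le_ncard hsub (Set.toFinite _)
      rw [← Nat.card_coe_set_eq, show Nat.card (J : Set G) = 2 ^ 10 from S.card_J] at h4
      have h1 := Set.ncard_insert_le (1 : G) {z, a, a * z}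
      have h2 := Set.ncard_insert_le z {a, a * z}
      have h3 := Set.ncard_insert_le a {a * z}
      rw [Set.ncard_singleton] at h3
      omega
    have e := (S.comm_mem p hp q hq).resolve_left hne
    have hz : z = p * q * p⁻¹ * q⁻¹ := by
      have hcz : Commute z (p⁻¹ * q⁻¹) := Subgroup.mem_centralizer_iff.1
        (mul_mem (inv_mem (S.le_cent (S.J_le hp))) (inv_mem (S.le_cent (S.J_le hq)))) z rfl
      calc z = q * p * ((p⁻¹ * q⁻¹) * z) := by group
        _ = q * p * (z * (p⁻¹ * q⁻¹)) := by rw [hcz.eq]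
        _ = q * p * z * p⁻¹ * q⁻¹ := by group
        _ = _ := by rw [e]
    refine ⟨⟨z, hH0a (S.J_le S.z_mem)⟩, ?_, rfl⟩
    have hm := Subgroup.commutator_mem_commutator (Subgroup.mem_top (⟨p, hH0a (S.J_le hp)⟩ : ↥(Subgroup.centralizer ({a} : Set G))))
      (Subgroup.mem_top (⟨q, hH0a (S.J_le hq)⟩ : ↥(Subgroup.centralizer ({a} : Set G))))
    rw [← commutator_def] at hm
    have e' : (⟨z, hH0a (S.J_le S.z_mem)⟩ : ↥(Subgroup.centralizer ({a} : Set G))) =
        ⁅(⟨p, hH0a (S.J_le hp)⟩ : ↥(Subgroup.centralizer ({a} : Set G))), ⟨q, hH0a (S.J_le hq)⟩⁆ := Subtype.ext hz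
    rw [e']
    exact hm
  have h : Half z a H₀ L :=
    { le := hLCa
      not_mem := haL
      split := hsplitL
      perfect := by
        have e := Subgroup.map_commutator (⊤ : Subgroup (Cfsg.PSU 6 K 2)) ⊤ eL.symm.toMonoidHom
        rw [← commutator_def, hcomm, Subgroup.map_top_of_surjective _ eL.symm.surjective,
          ← commutator_def] at e
        exact e.symm
      simple := eL.isSimpleGroup
      card := by rw [Nat.card_congr eL.toEquiv, hcardPSU]
      z_mem := hzL
      inf := hinf }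
  -- the target of the transfer
  haveI hXn : ((L ⊓ C).subgroupOf C).Normal := ⟨fun x hx g =>
    ⟨h.normal S g.2 hx, C.mul_mem (C.mul_mem g.2 hx.2) (C.inv_mem g.2)⟩⟩
  have hQ : Nat.card (↥C ⧸ (L ⊓ C).subgroupOf C) = 2 ^ 2 := by
    have e := Subgroup.card_eq_card_quotient_mul_card_subgroup ((L ⊓ C).subgroupOf C)
    rw [S.card_cent, Nat.card_congr (Subgroup.subgroupOfEquivOfLe inf_le_right).toEquiv,
      h.card_X S] at e
    omega
  haveI : Fact (Nat.Prime 2) := ⟨Nat.prime_two⟩
  letI : CommGroup (↥C ⧸ (L ⊓ C).subgroupOf C) := IsPGroup.commGroupOfCardEqPrimeSq hQ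
  let μ : ↥C →* ↥C ⧸ (L ⊓ C).subgroupOf C := QuotientGroup.mk' _
  have hμa : μ ⟨a, haC⟩ ≠ 1 := fun e => haL ((QuotientGroup.eq_one_iff _).1 e).1
  have hfix : ∀ q : G ⧸ C, a • q = q → (∀ p ∈ J ⊓ L, p • q = q) → q = ((1 : G) : G ⧸ C) := by
    intro q haq hJq
    have hcm : ∀ {g : G}, g • q = q → Commute g (q.out * z * q.out⁻¹) := fun {g} hg => by
      have hm := Subgroup.mem_centralizer_singleton_iff.1 ((H39.U6E.smul_eq_iff_mem g q).1 hg)
      have hm' : Commute (q.out⁻¹ * g * q.out) z := hm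
      have := hm'.map (MulAut.conj q.out).toMonoidHom
      simpa [mul_assoc] using this
    set y := q.out * z * q.out⁻¹ with hy
    have hyC : y ∈ C := Subgroup.mem_centralizer_singleton_iff.2
      (hcm (hJq z ⟨S.z_mem, hzL⟩)).eq.symm
    have hcy : ∀ j ∈ J, Commute y j := fun j hj => by
      rcases hsplitL j (hH0a (S.J_le hj)) with e | e
      · exact (hcm (hJq j ⟨hj, e⟩)).symm
      · have := ((hcm (hJq _ ⟨J.mul_mem hj S.a_mem, e⟩)).mul_left (hcm haq)).symm
        rwa [mul_assoc, S.a_sq, mul_one] at this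
    have hyJ : y ∈ J := S.self_cent y hyC hcy
    have hyz : IsConj z y := isConj_iff.2 ⟨q.out, rfl⟩
    have hyeq : y = z := by
      rcases S.center y hyJ hcy with e | e | e | e
      · exact absurd (isConj_one_left.1 (e ▸ hyz)) S.ne_one
      · exact e
      · exact absurd (e ▸ hyz) hnc
      · refine absurd (hyz.trans ?_) hnc
        rw [e, ← hg₀a]
        exact (isConj_iff.2 ⟨g₀, rfl⟩).symm
    have hqC : q.out ∈ C :=
      Subgroup.mem_centralizer_singleton_iff.2 (mul_inv_eq_iff_eq_mul.1 hyeq)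
    rw [← QuotientGroup.out_eq' q]
    exact QuotientGroup.eq.2 (by rw [mul_one]; exact inv_mem hqC)
  have hV : MonoidHom.transfer μ a = μ ⟨a, haC⟩ :=
    transfer_eq_self μ haC S.a_sq (J ⊓ L) (IsPGroup.of_card (h.card_J S))
      (inf_le_left.trans (S.J_le.trans S.le_cent))
      (fun p hp => (S.a_H₀ p (S.J_le hp.1)).symm) hfix
  set M := (MonoidHom.transfer μ).ker with hM
  have haM : a ∉ M := fun hm => hμa (hV ▸ hm)
  have hLM : L ≤ M := fun l hl => by
    have hm : (⟨l, hl⟩ : ↥L) ∈ ((MonoidHom.transfer μ).comp L.subtype).ker :=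
      Abelianization.commutator_subset_ker _ (h.perfect ▸ Subgroup.mem_top _)
    exact hm
  have hMn : M.Normal := MonoidHom.normal_ker _
  -- such a subgroup is `L`, which `a` and `az` then centralise
  have finish : ∀ (N : Subgroup G), L ≤ N → N ⊓ C = L ⊓ C →
      ∀ c ∈ C, c ∉ H₀ → (∀ l ∈ N, c⁻¹ * l * c ∈ N) → False := by
    intro N hN hi c hc hcn hnorm
    obtain ⟨-, rfl⟩ := h.over S hN hi
    have hle : L ≤ C := fun l hl => by
      have e1 : Commute l a := Subgroup.mem_centralizer_singleton_iff.1 (hLCa hl)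
      have e2 : Commute (c⁻¹ * l * c) a :=
        Subgroup.mem_centralizer_singleton_iff.1 (hLCa (hnorm l hl))
      have e3 := e2.map (MulAut.conj c).toMonoidHom
      simp only [MulEquiv.toMonoidHom_eq_coe, MonoidHom.coe_coe, MulAut.conj_apply] at e3
      rw [swap_of_not_mem S hsw hc hcn,
        show c * (c⁻¹ * l * c) * c⁻¹ = l by group] at e3
      have e4 := e1.mul_right e3
      rw [← mul_assoc, S.a_sq, one_mul] at e4
      exact Subgroup.mem_centralizer_singleton_iff.2 e4
    have e := h.card_X S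
    rw [inf_eq_left.2 hle, h.card] at e
    norm_num at e
  have hg₀n : g₀ ∉ H₀ := fun hm => by
    rw [← (S.a_H₀ g₀ hm).eq, mul_inv_cancel_right] at hg₀a
    exact S.ne_one (left_eq_mul.1 hg₀a)
  by_cases hM' : ∃ c ∈ M, c ∈ C ∧ c ∉ H₀
  · obtain ⟨c, hcM, hcC, hcn⟩ := hM'
    obtain ⟨N, hN, hi, hnorm⟩ := half_two S h hLM haM hcM hcC hcn
    exact finish N hN hi c hcC hcn hnorm
  · push_neg at hM'
    refine finish M hLM (le_antisymm (fun g hg => ⟨?_, hg.2⟩) (inf_le_inf_right _ hLM)) g₀ hg₀ hg₀n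
      fun l hl => by simpa using hMn.conj_mem l hl g₀⁻¹
    rcases hsplitL g (hH0a (hM' g hg.1 hg.2)) with e | e
    · exact e
    · refine absurd ?_ haM
      have := M.mul_mem (M.inv_mem hg.1) (hLM e)
      rwa [inv_mul_cancel_left] at this

end H72.Fi22C
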