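import Cfsg.Agent.H39.U6E.IndexTwo
import Cfsg.Agent.H38.U6C.Stmts

/-!
An involution centraliser acting naturally on its core as the unitary group in dimension four has
no homomorphism onto a group of order two.
-/

set_option autoImplicit false
set_option maxRecDepth 100000
set_option linter.unusedSectionVars false

namespace H72.Fi22C

open H38.U6C H50.U6C H39.U6E

variable {G : Type*} [Group G] [Finite G] {F : Type*} [Field F] [Fintype F] {z : G} {J : Subgroup G}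
  {π : ↥(Subgroup.centralizer ({z} : Set G)) →* Cfsg.PSp 2 F} {φ : G → V}
  {ρ : ↥(Subgroup.centralizer ({z} : Set G)) →* Equiv.Perm V}

/-- Every sign character of the centraliser is trivial. -/
theorem no_two (hb : Base z J π) (hN : Nat4 z J φ ρ) (hs : IsSimpleGroup (Cfsg.PSp 2 F))
    (hc : Nat.card (Cfsg.PSp 2 F) = 25920)
    (χ : ↥(Subgroup.centralizer ({z} : Set G)) →* ℤˣ) : χ = 1 := by
  classical
  have hJC : J ≤ Subgroup.centralizer ({z} : Set G) := hN.le_cent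
  let T : V → Prop := fun v => ∃ j, ∃ hj : j ∈ J, φ j = v ∧ χ ⟨j, hJC hj⟩ = 1
  have hT0 : T 0 := ⟨1, one_mem J, (hN.φ_ker 1 (one_mem J)).2 (Or.inl rfl), map_one χ⟩
  have hTadd : ∀ v w, T v → T w → T (vadd v w) := by
    rintro v w ⟨p, hp, rfl, hpχ⟩ ⟨q, hq, rfl, hqχ⟩
    refine ⟨p * q, mul_mem hp hq, hN.φ_mul p hp q hq, ?_⟩
    exact (map_mul χ ⟨p, hJC hp⟩ ⟨q, hJC hq⟩).trans (by rw [hpχ, hqχ, one_mul])
  have hpnt : ∀ (i : Fin 45) (c : Fin 4), T (smul4 c (pnt i)) := by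
    intro i c
    obtain ⟨v, hv⟩ := pnt_values i c
    obtain ⟨j, hj, rfl⟩ := hN.φ_surj v
    obtain ⟨g, hg⟩ : tv i ∈ ρ.range := hN.ρ_range.symm ▸ Subgroup.subset_closure ⟨i, rfl⟩
    have hgj := hN.conj_mem g g.2 j hj
    refine ⟨(g : G) * j * (g : G)⁻¹ * j, mul_mem hgj hj, ?_, ?_⟩
    · rw [hN.φ_mul _ hgj _ hj, hN.ρ_φ g j hj, hg, tv_apply, hv,
        H50.U6C.vadd_comm (φ j) (smul4 _ _), H50.U6C.vadd_assoc, H50.U6C.vadd_self, vadd_zero']
    · have e : (⟨(g : G) * j * (g : G)⁻¹ * j, hJC (mul_mem hgj hj)⟩ :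
          ↥(Subgroup.centralizer ({z} : Set G))) = g * ⟨j, hJC hj⟩ * g⁻¹ * ⟨j, hJC hj⟩ :=
        Subtype.ext rfl
      rw [e, map_mul, map_mul, map_mul, map_inv, mul_comm (χ g), mul_inv_cancel_right,
        Int.units_mul_self]
  have hTall : ∀ v, T v := fun v => by
    refine forall_of_bvec T hT0 hTadd (fun k => ?_) v
    obtain ⟨c₀, c₁, c₂, c₃, e⟩ := pnt_span k
    rw [e]
    exact hTadd _ _ (hTadd _ _ (hpnt _ _) (hpnt _ _)) (hTadd _ _ (hpnt _ _) (hpnt _ _))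
  -- the centre of the core
  have hz : χ ⟨z, hJC hN.z_mem⟩ = 1 := by
    obtain ⟨p, hp, ep⟩ := hN.φ_surj 1
    obtain ⟨q, hq, eq⟩ := hN.φ_surj 2
    have e := hN.φ_comm p hp q hq
    rw [ep, eq, pol_true_pair, if_pos rfl] at e
    have e' : (⟨p, hJC hp⟩ * ⟨q, hJC hq⟩ : ↥(Subgroup.centralizer ({z} : Set G))) =
        ⟨q, hJC hq⟩ * ⟨p, hJC hp⟩ * ⟨z, hJC hN.z_mem⟩ := Subtype.ext e
    have e2 := congrArg χ e'
    rw [map_mul, map_mul, map_mul, mul_comm (χ ⟨q, hJC hq⟩)] at e2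
    exact mul_eq_left.1 e2.symm
  have hJ1 : ∀ j (hj : j ∈ J), χ ⟨j, hJC hj⟩ = 1 := by
    intro j hj
    obtain ⟨t, ht, et, htχ⟩ := hTall (φ j)
    have e0 : φ (j * t) = 0 := by rw [hN.φ_mul j hj t ht, et, H50.U6C.vadd_self]
    have e1 : χ ⟨j * t, hJC (mul_mem hj ht)⟩ = χ ⟨j, hJC hj⟩ := by
      exact (map_mul χ ⟨j, hJC hj⟩ ⟨t, hJC ht⟩).trans (by rw [htχ, mul_one])
    rw [← e1]
    rcases (hN.φ_ker _ (mul_mem hj ht)).1 e0 with e | e
    · rw [show (⟨j * t, hJC (mul_mem hj ht)⟩ : ↥(Subgroup.centralizer ({z} : Set G))) = 1 from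
        Subtype.ext e, map_one]
    · rw [show (⟨j * t, hJC (mul_mem hj ht)⟩ : ↥(Subgroup.centralizer ({z} : Set G))) =
        ⟨z, hJC hN.z_mem⟩ from Subtype.ext e, hz]
  have hker : π.ker ≤ χ.ker := fun g hg => hJ1 g ((hb.π_ker g).1 hg)
  rcases hs.eq_bot_or_eq_top_of_normal _ ((MonoidHom.normal_ker χ).map π hb.π_surj) with h | h
  · exfalso
    have hle : χ.ker ≤ π.ker := fun g hg => by
      have hm : π g ∈ χ.ker.map π := Subgroup.mem_map_of_mem π hg
      rw [h, Subgroup.mem_bot] at hm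
      exact hm
    have e := congrArg Subgroup.index (le_antisymm hle hker)
    rw [Subgroup.index_ker, Subgroup.index_ker, MonoidHom.range_eq_top.2 hb.π_surj,
      Subgroup.card_top, hc] at e
    have h2 := Subgroup.card_le_card_group χ.range
    rw [Nat.card_eq_fintype_card (α := ℤˣ), Fintype.card_units_int] at h2
    omega
  · refine MonoidHom.ext fun g => ?_
    have hm : π g ∈ χ.ker.map π := h ▸ Subgroup.mem_top _
    obtain ⟨k, hk, e⟩ := hm
    have hd : k⁻¹ * g ∈ π.ker := by rw [MonoidHom.mem_ker, map_mul, map_inv, e, inv_mul_cancel]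
    have := hker hd
    rw [MonoidHom.mem_ker, map_mul, map_inv, (hk : χ k = 1), inv_one, one_mul] at this
    exact this

end H72.Fi22C
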