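import Cfsg.Agent.H39.Fi22C.Basic
import Cfsg.Agent.H72.Fi22C.NoTwo
import Cfsg.Agent.H50.Center
import Cfsg.Agent.H50.Count
import Cfsg.Agent.H50.U6C.Main
import Cfsg.Agent.H55.U6C.NatWcj
import Cfsg.Agent.H38.U6C.FixedDirect
import Cfsg.Agent.H38.U6C.Adapt

/-!
The simple half `L` of `C(a) = ⟨a⟩ × L`: a subgroup over `L` meeting `C(z)` inside it is `L`, and
`C_L(z)` is normal in `C(z)`.
-/

set_option autoImplicit false
set_option maxRecDepth 100000
set_option linter.unusedSectionVars false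

namespace H72.Fi22C

open H38.U6C H39.Fi22C

theorem card_psu_six {K : Type*} [Field K] [Fintype K] (hK : Fintype.card K = 4) :
    Nat.card (Cfsg.PSU 6 K 2) = 9196830720 := by
  have hK' : Fintype.card K = 2 ^ 2 := hK
  have h := H50.card_PSU_mul hK' (n := 6) (by norm_num)
  rw [H50.card_GU hK'] at h
  norm_num [Finset.prod_range_succ, Nat.even_iff] at h
  omega

/-- The sign of the elements outside an index-two subgroup. -/
noncomputable def signHom {M : Type*} [Group M] (P : M → Prop) (h1 : P 1)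
    (hmul : ∀ x y, P (x * y) ↔ (P x ↔ P y)) : M →* ℤˣ := by
  classical
  exact {
    toFun := fun x => if P x then 1 else -1
    map_one' := if_pos h1
    map_mul' := fun x y => by
      have hiff := hmul x y
      by_cases hx : P x <;> by_cases hy : P y <;> simp_all }

theorem signHom_eq_one {M : Type*} [Group M] {P : M → Prop} {h1 : P 1}
    {hmul : ∀ x y, P (x * y) ↔ (P x ↔ P y)} {x : M} (h : signHom P h1 hmul x = 1) : P x := by
  classical
  by_contra hx
  simp [signHom, hx] at h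

variable {G : Type*} [Group G] [Finite G] {F : Type*} [Field F] [Fintype F] {z a : G}
  {J H₀ L : Subgroup G} {π : ↥H₀ →* Cfsg.PSp 2 F}

/-- A simple complement to `⟨a⟩` in `C(a)`. -/
structure Half (z a : G) (H₀ L : Subgroup G) : Prop where
  le : L ≤ Subgroup.centralizer ({a} : Set G)
  not_mem : a ∉ L
  split : ∀ g ∈ Subgroup.centralizer ({a} : Set G), g ∈ L ∨ g * a ∈ L
  perfect : commutator ↥L = ⊤
  simple : IsSimpleGroup ↥L
  card : Nat.card L = 9196830720
  z_mem : z ∈ L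
  inf : Subgroup.centralizer ({a} : Set G) ⊓ Subgroup.centralizer ({z} : Set G) = H₀

theorem a_mem_cent : a ∈ Subgroup.centralizer ({a} : Set G) :=
  Subgroup.mem_centralizer_singleton_iff.2 rfl

theorem Half.mem_iff (h : Half z a H₀ L) (ha : a * a = 1) {u v : G}
    (hu : u ∈ Subgroup.centralizer ({a} : Set G)) (hv : v ∈ Subgroup.centralizer ({a} : Set G)) :
    u * v ∈ L ↔ (u ∈ L ↔ v ∈ L) := by
  by_cases hu' : u ∈ L
  · simp only [hu', true_iff]
    exact L.mul_mem_cancel_left hu'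
  by_cases hv' : v ∈ L
  · simp only [hu', hv', iff_true]
    exact iff_of_false (fun e => hu' ((L.mul_mem_cancel_right hv').1 e)) not_false
  · simp only [hu', hv', iff_self, iff_true]
    have e := mul_mem ((h.split u hu).resolve_left hu') ((h.split v hv).resolve_left hv')
    have hc : Commute a v := (Subgroup.mem_centralizer_singleton_iff.1 hv : Commute v a).symm
    rwa [mul_assoc u a, ← mul_assoc a v, hc.eq, mul_assoc v a, ha, mul_one] at e

theorem Half.card_inf (h : Half z a H₀ L) (ha : a * a = 1) {S : Subgroup G}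
    (hS : S ≤ Subgroup.centralizer ({a} : Set G)) (haS : a ∈ S) :
    Nat.card ↥(S ⊓ L) * 2 = Nat.card S := by
  have hidx : ((S ⊓ L).subgroupOf S).index = 2 := by
    rw [Subgroup.index_eq_two_iff]
    refine ⟨⟨a, haS⟩, fun b => ?_⟩
    simp only [Subgroup.mem_subgroupOf, Subgroup.coe_mul, Subgroup.mem_inf]
    have e := h.mem_iff ha (hS b.2) (a_mem_cent (a := a))
    by_cases hb : (b : G) ∈ L
    · exact Or.inr ⟨⟨b.2, hb⟩, fun x => by
        have := e.1 x.2
        exact h.not_mem (this.1 hb)⟩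
    · exact Or.inl ⟨⟨mul_mem b.2 haS, e.2 (iff_of_false hb h.not_mem)⟩, fun x => hb x.2⟩
  have e := Subgroup.card_mul_index ((S ⊓ L).subgroupOf S)
  rwa [hidx, Nat.card_congr (Subgroup.subgroupOfEquivOfLe inf_le_left).toEquiv] at e

section setup

variable (S : Setup3 z a J H₀ π) (h : Half z a H₀ L)

include h in
theorem Half.inf_cent_le : L ⊓ Subgroup.centralizer ({z} : Set G) ≤ H₀ :=
  fun _ hg => h.inf.le ⟨h.le hg.1, hg.2⟩

include S h in
theorem Half.inf_eq : H₀ ⊓ L = L ⊓ Subgroup.centralizer ({z} : Set G) :=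
  le_antisymm (fun _ hg => ⟨hg.2, S.le_cent hg.1⟩) fun _ hg => ⟨h.inf_cent_le hg, hg.1⟩

include h in
theorem Half.le_cent_a : H₀ ≤ Subgroup.centralizer ({a} : Set G) := h.inf.ge.trans inf_le_left

include S h in
theorem Half.card_X : Nat.card ↥(L ⊓ Subgroup.centralizer ({z} : Set G)) = 2 ^ 9 * 25920 := by
  have e := h.card_inf S.a_sq h.le_cent_a (S.J_le S.a_mem)
  rw [h.inf_eq S, S.card_H₀] at e
  omega

include S h in
theorem Half.card_J : Nat.card ↥(J ⊓ L) = 2 ^ 9 := by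
  have e := h.card_inf S.a_sq (S.J_le.trans h.le_cent_a) S.a_mem
  rw [S.card_J] at e
  omega

theorem mem_cent_sub {N : Subgroup G} (hz : z ∈ N) {g : ↥N}
    (hg : (g : G) ∈ Subgroup.centralizer ({z} : Set G)) :
    g ∈ Subgroup.centralizer ({(⟨z, hz⟩ : ↥N)} : Set ↥N) :=
  Subgroup.mem_centralizer_singleton_iff.2
    (Subtype.ext (Subgroup.mem_centralizer_singleton_iff.1 hg))

theorem of_cent_sub {N : Subgroup G} (hz : z ∈ N) {g : ↥N}
    (hg : g ∈ Subgroup.centralizer ({(⟨z, hz⟩ : ↥N)} : Set ↥N)) :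
    (g : G) ∈ Subgroup.centralizer ({z} : Set G) :=
  Subgroup.mem_centralizer_singleton_iff.2
    (congrArg Subtype.val (Subgroup.mem_centralizer_singleton_iff.1 hg))

/-- The centraliser in a subgroup over `L`, read in `H₀`. -/
def toH (h : Half z a H₀ L) {N : Subgroup G} (hz : z ∈ N)
    (hi : N ⊓ Subgroup.centralizer ({z} : Set G) = L ⊓ Subgroup.centralizer ({z} : Set G)) :
    ↥(Subgroup.centralizer ({(⟨z, hz⟩ : ↥N)} : Set ↥N)) →* ↥H₀ where
  toFun g := ⟨g.1.1, h.inf_cent_le (hi.le ⟨g.1.2, of_cent_sub hz g.2⟩)⟩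
  map_one' := rfl
  map_mul' _ _ := rfl

include S h in
theorem Half.base {N : Subgroup G} (hN : L ≤ N)
    (hi : N ⊓ Subgroup.centralizer ({z} : Set G) = L ⊓ Subgroup.centralizer ({z} : Set G)) :
    Base (G := ↥N) ⟨z, hN h.z_mem⟩ ((J ⊓ L).subgroupOf N) (π.comp (toH h (hN h.z_mem) hi)) := by
  have hle : J ⊓ L ≤ N := inf_le_right.trans hN
  have hall : ∀ j ∈ J, j ∈ J ⊓ L ∨ j * a ∈ J ⊓ L := fun j hj =>
    (h.split j (h.le_cent_a (S.J_le hj))).imp (fun e => ⟨hj, e⟩)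
      fun e => ⟨mul_mem hj S.a_mem, e⟩
  have hcomJ : ∀ g ∈ Subgroup.centralizer ({a} : Set G), (∀ p ∈ J ⊓ L, Commute g p) →
      ∀ j ∈ J, Commute g j := by
    intro g hg hc j hj
    rcases hall j hj with e | e
    · exact hc j e
    · have := (hc _ e).mul_right (Subgroup.mem_centralizer_singleton_iff.1 hg : Commute g a)
      rwa [mul_assoc, S.a_sq, mul_one] at this
  refine ⟨S.card_F, Subtype.ext S.sq, fun e => S.ne_one (congrArg Subtype.val e),
    fun g hg => mem_cent_sub _ (S.le_cent (S.J_le hg.1)), ⟨S.z_mem, h.z_mem⟩, ?_, ?_,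
    fun p hp => (S.sq_mem p hp.1).imp (fun e => Subtype.ext e) (fun e => Subtype.ext e),
    fun p hp q hq => (S.comm_mem p hp.1 q hq.1).imp (fun e => Subtype.ext e)
      (fun e => Subtype.ext e), ?_, ?_, ?_, fun g => (S.π_ker _).trans
        ⟨fun e => ⟨e, (hi.le ⟨g.1.2, of_cent_sub _ g.2⟩).1⟩, fun e => e.1⟩, ?_⟩
  · rw [Nat.card_congr (Subgroup.subgroupOfEquivOfLe hle).toEquiv, h.card_J S]
  · intro g hg j hj
    have hgX : (g : G) ∈ L := (hi.le ⟨g.2, of_cent_sub _ hg⟩).1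
    exact ⟨S.conj_mem g (of_cent_sub _ hg) j hj.1, L.mul_mem (L.mul_mem hgX hj.2) (L.inv_mem hgX)⟩
  · intro p hp hc
    have hc' : ∀ j ∈ J, Commute (p : G) j :=
      hcomJ p (h.le hp.2) fun q hq => congrArg Subtype.val (hc ⟨q, hle hq⟩ hq).eq
    rcases S.center p hp.1 hc' with e | e | e | e
    · exact Or.inl (Subtype.ext e)
    · exact Or.inr (Subtype.ext e)
    · exact absurd (e ▸ hp.2) h.not_mem
    · exact absurd ((L.mul_mem_cancel_right h.z_mem).1 (e ▸ hp.2)) h.not_mem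
  · intro g hg hc
    have hgX : (g : G) ∈ L := (hi.le ⟨g.2, of_cent_sub _ hg⟩).1
    exact ⟨S.self_cent g (of_cent_sub _ hg) (hcomJ g (h.le hgX) fun q hq =>
      congrArg Subtype.val (hc ⟨q, hle hq⟩ hq).eq), hgX⟩
  · intro p
    obtain ⟨⟨g, hg⟩, rfl⟩ := S.π_surj p
    have haH : a ∈ H₀ := S.J_le S.a_mem
    rcases h.split g (h.le_cent_a hg) with e | e
    · exact ⟨⟨⟨g, hN e⟩, mem_cent_sub _ (S.le_cent hg)⟩, rfl⟩
    · refine ⟨⟨⟨g * a, hN e⟩, mem_cent_sub _ (S.le_cent (mul_mem hg haH))⟩, ?_⟩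
      show π (⟨g, hg⟩ * ⟨a, haH⟩) = π ⟨g, hg⟩
      rw [map_mul, (S.π_ker ⟨a, haH⟩).2 S.a_mem, mul_one]
  · rw [← h.card_X S]
    refine Nat.card_congr
      { toFun := fun g => ⟨g.1.1, hi.le ⟨g.1.2, of_cent_sub _ g.2⟩⟩
        invFun := fun g => ⟨⟨g.1, hN g.2.1⟩, mem_cent_sub _ g.2.2⟩
        left_inv := fun g => rfl
        right_inv := fun g => rfl }

include S h in
/-- A subgroup over `L` meeting `C(z)` in `C_L(z)` has the natural module and is `L`. -/
theorem Half.over {N : Subgroup G} (hN : L ≤ N)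
    (hi : N ⊓ Subgroup.centralizer ({z} : Set G) = L ⊓ Subgroup.centralizer ({z} : Set G)) :
    (∃ (φ : ↥N → V) (ρ : ↥(Subgroup.centralizer ({(⟨z, hN h.z_mem⟩ : ↥N)} : Set ↥N)) →*
      Equiv.Perm V), Nat4 (⟨z, hN h.z_mem⟩ : ↥N) ((J ⊓ L).subgroupOf N) φ ρ) ∧ N = L := by
  have B := h.base S hN hi
  have hord : orderOf (⟨z, hN h.z_mem⟩ : ↥N) = 2 := by
    haveI : Fact (Nat.Prime 2) := ⟨Nat.prime_two⟩
    exact orderOf_eq_prime (by rw [pow_two]; exact Subtype.ext S.sq)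
      fun e => S.ne_one (congrArg Subtype.val e)
  have hnwc : ¬ WC (⟨z, hN h.z_mem⟩ : ↥N) := by
    intro hwc
    have htop := mul_core_of_wc hord hwc
    haveI : (Cfsg.oddCore ↥N).Normal := H1.pPrimeCore_normal' 2 ↥N
    have hdvd := H1.card_sup_dvd_mul
      (Subgroup.centralizer ({(⟨z, hN h.z_mem⟩ : ↥N)} : Set ↥N)) (Cfsg.oddCore ↥N)
    rw [htop, Subgroup.card_top, B.card_cent] at hdvd
    have hpos : 0 < Nat.card ↥(Cfsg.oddCore ↥N) := Nat.card_pos
    have hle := Nat.le_of_dvd (Nat.mul_pos (by norm_num) hpos) hdvd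
    have hcop : (Nat.card ↥(Cfsg.oddCore ↥N)).Coprime 2 := H1.card_pPrimeCore_coprime 2 ↥N
    have hdisj : Disjoint (L.subgroupOf N) (Cfsg.oddCore ↥N) := by
      rcases h.simple.eq_bot_or_eq_top_of_normal ((Cfsg.oddCore ↥N).comap (Subgroup.inclusion hN))
        (Subgroup.normal_comap _) with e | e
      · rw [disjoint_iff, eq_bot_iff]
        rintro x ⟨hx1, hx2⟩
        have hm : (⟨(x : G), hx1⟩ : ↥L) ∈ (Cfsg.oddCore ↥N).comap (Subgroup.inclusion hN) := hx2
        rw [e, Subgroup.mem_bot] at hm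
        exact Subtype.ext (congrArg Subtype.val hm :)
      · exfalso
        have hLO : L.subgroupOf N ≤ Cfsg.oddCore ↥N := fun x hx => by
          have : (⟨(x : G), hx⟩ : ↥L) ∈ (Cfsg.oddCore ↥N).comap (Subgroup.inclusion hN) :=
            e ▸ Subgroup.mem_top _
          exact this
        have h2 := Subgroup.card_dvd_of_le hLO
        rw [Nat.card_congr (Subgroup.subgroupOfEquivOfLe hN).toEquiv, h.card] at h2
        exact absurd (hcop.coprime_dvd_left h2) (by norm_num)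
    have hinj := Nat.card_le_card_of_injective _ (Subgroup.mul_injective_of_disjoint hdisj)
    rw [Nat.card_prod, Nat.card_congr (Subgroup.subgroupOfEquivOfLe hN).toEquiv, h.card] at hinj
    nlinarith
  rcases H50.U6C.module_dichotomy B with ⟨φ, ρ, hn⟩ | ⟨U, hU⟩
  · refine ⟨⟨φ, ρ, hn⟩, ?_⟩
    obtain ⟨pt, hL⟩ := H38.U6C.locStmt hn (H55.U6C.wcj hn) hnwc
    obtain ⟨-, F', f1, f2, hF', ⟨iso⟩⟩ := H24.U6.recognition hL
    have hc : Nat.card N = 9196830720 := by
      rw [Nat.card_congr iso.toEquiv, card_psu_six hF']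
    exact (Subgroup.eq_of_le_of_card_ge hN (by rw [hc, h.card])).symm
  · exact absurd (H38.U6C.fixedDirect B hU) hnwc

include S h in
/-- `C_L(z)` is normal in `C(z)`. -/
theorem Half.normal {g : G} (hg : g ∈ Subgroup.centralizer ({z} : Set G)) {x : G}
    (hx : x ∈ L ⊓ Subgroup.centralizer ({z} : Set G)) : g * x * g⁻¹ ∈ L := by
  obtain ⟨⟨φ, ρ, hn⟩, -⟩ := h.over S le_rfl rfl
  have hC : ∀ u : ↥(Subgroup.centralizer ({(⟨z, h.z_mem⟩ : ↥L)} : Set ↥L)),
      g * (u.1 : G) * g⁻¹ ∈ Subgroup.centralizer ({a} : Set G) := fun u =>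
    h.le_cent_a (S.conj_H₀ g hg _ (h.inf_cent_le ⟨u.1.2, of_cent_sub _ u.2⟩))
  let P : ↥(Subgroup.centralizer ({(⟨z, h.z_mem⟩ : ↥L)} : Set ↥L)) → Prop :=
    fun u => g * (u.1 : G) * g⁻¹ ∈ L
  have h1 : P 1 := by simp [P]
  have hmul : ∀ u v, P (u * v) ↔ (P u ↔ P v) := fun u v => by
    have := h.mem_iff S.a_sq (hC u) (hC v)
    rwa [show g * (u.1 : G) * g⁻¹ * (g * (v.1 : G) * g⁻¹) = g * ((u * v).1 : G) * g⁻¹ by
      simp [mul_assoc]] at this
  have hχ := no_two (h.base S le_rfl rfl) hn S.simple_psp S.card_psp (signHom P h1 hmul)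
  exact signHom_eq_one (P := P) (h1 := h1) (hmul := hmul)
    (x := ⟨⟨x, hx.1⟩, mem_cent_sub _ hx.2⟩) (by rw [hχ]; rfl)

end setup

end H72.Fi22C
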