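import Cfsg.Agent.H39.U6E.Transfer

/-!
The transfer at an involution when a 2-group commuting with it has a single fixed coset among those
fixed by the involution.
-/

set_option autoImplicit false

namespace H72.Fi22C

open MulAction H39.U6E

variable {G : Type*} [Group G] [Finite G] {C : Subgroup G} {A : Type*} [CommGroup A] (μ : ↥C →* A)

open Classical in
/-- The value at a coset. -/
noncomputable def cosetVal (a : G) (q : G ⧸ C) : A :=
  if hm : q.out⁻¹ * a * q.out ∈ C then μ ⟨_, hm⟩ else 1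

theorem cosetVal_eq {a : G} {q : G ⧸ C} (hm : q.out⁻¹ * a * q.out ∈ C) :
    cosetVal μ a q = μ ⟨_, hm⟩ := by
  rw [cosetVal, dif_pos hm]

theorem transfer_eq_self {a : G} (ha : a ∈ C) (h2 : a * a = 1) (P : Subgroup G)
    (hP : IsPGroup 2 ↥P) (hPC : P ≤ C) (hcomm : ∀ p ∈ P, Commute p a)
    (hfix : ∀ q : G ⧸ C, a • q = q → (∀ p ∈ P, p • q = q) → q = ((1 : G) : G ⧸ C)) :
    MonoidHom.transfer μ a = μ ⟨a, ha⟩ := by
  classical
  haveI := Fintype.ofFinite (G ⧸ C)
  haveI : Fintype (Quotient (orbitRel (Subgroup.zpowers a) (G ⧸ C))) := Fintype.ofFinite _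
  set R := Quotient (orbitRel (Subgroup.zpowers a) (G ⧸ C))
  set S : Finset (G ⧸ C) := Finset.univ.filter fun q => a • q = q with hSdef
  have hS : ∀ q, q ∈ S ↔ a • q = q := fun q => by simp [hSdef]
  have hiter : ∀ n (q : G ⧸ C), (fun x : G ⧸ C => a • x)^[n] q = a ^ n • q := fun n q => by
    rw [smul_iterate]
  have hm12 : ∀ O : R, Function.minimalPeriod (a • ·) O.out = 1 ∨
      Function.minimalPeriod (a • ·) O.out = 2 := by
    intro O
    have hd : Function.minimalPeriod (a • ·) O.out ∣ 2 :=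
      (show Function.IsPeriodicPt (a • ·) 2 O.out by
        show _ = _
        rw [hiter, pow_two, h2, one_smul]).minimalPeriod_dvd
    exact (Nat.dvd_prime Nat.prime_two).1 hd
  -- the transfer as a product over fixed cosets
  have hprod : MonoidHom.transfer μ a = ∏ q ∈ S, cosetVal μ a q := by
    rw [MonoidHom.transfer_eq_prod_quotient_orbitRel_zpowers_quot]
    rw [← Finset.prod_filter_of_ne (p := fun O : R => a • O.out = O.out) ?_]
    · refine Finset.prod_bij (fun O _ => O.out) ?_ ?_ ?_ ?_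
      · intro O hO
        exact (hS _).2 (Finset.mem_filter.1 hO).2
      · intro O _ O' _ e
        exact Quotient.out_inj.1 e
      · intro q hq
        refine ⟨Quotient.mk'' q, ?_, ?_⟩
        all_goals
          have hout : (Quotient.mk'' q : R).out = q := by
            have hr : (orbitRel (Subgroup.zpowers a) (G ⧸ C)) (Quotient.mk'' q : R).out q :=
              Quotient.exact' (Quotient.out_eq' (Quotient.mk'' q : R))
            obtain ⟨⟨b, hb⟩, e⟩ := hr
            rw [← e]
            show b • q = q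
            exact (mem_stabilizer_iff.1 ((Subgroup.zpowers_le.2
              (mem_stabilizer_iff.2 ((hS q).1 hq))) hb))
        · exact Finset.mem_filter.2 ⟨Finset.mem_univ _, by rw [hout]; exact (hS q).1 hq⟩
        · exact hout
      · intro O hO
        have hfx : a • O.out = O.out := (Finset.mem_filter.1 hO).2
        have hm1 : Function.minimalPeriod (a • ·) O.out = 1 :=
          Function.minimalPeriod_eq_one_iff_isFixedPt.2 hfx
        rw [cosetVal_eq μ ((smul_eq_iff_mem a _).1 hfx)]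
        congr 1
        refine Subtype.ext ?_
        show O.out.out⁻¹ * a ^ Function.minimalPeriod (a • ·) O.out * O.out.out =
          O.out.out⁻¹ * a * O.out.out
        rw [hm1, pow_one]
    · intro O _ hne
      rcases hm12 O with e | e
      · exact Function.minimalPeriod_eq_one_iff_isFixedPt.1 e
      · refine absurd ?_ hne
        rw [← map_one μ]
        congr 1
        refine Subtype.ext ?_
        show O.out.out⁻¹ * a ^ Function.minimalPeriod (a • ·) O.out * O.out.out = 1
        rw [e, pow_two, h2, mul_one, inv_mul_cancel]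
  -- invariance of the values
  have hsmul : ∀ p ∈ P, ∀ q ∈ S, p • q ∈ S ∧ cosetVal μ a (p • q) = cosetVal μ a q := by
    intro p hp q hq
    have hm := (smul_eq_iff_mem a q).1 ((hS q).1 hq)
    obtain ⟨k, hk⟩ := out_smul p q
    have e : (p • q).out⁻¹ * a * (p • q).out = (k : G)⁻¹ * (q.out⁻¹ * a * q.out) * k := by
      rw [hk]
      calc _ = (k : G)⁻¹ * q.out⁻¹ * (p⁻¹ * (a * p)) * q.out * k := by group
        _ = _ := by rw [← (hcomm p hp).eq, inv_mul_cancel_left]; group
    have hm' : (p • q).out⁻¹ * a * (p • q).out ∈ C := by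
      rw [e]; exact mul_mem (mul_mem (inv_mem k.2) hm) k.2
    refine ⟨(hS _).2 ((smul_eq_iff_mem a _).2 hm'), ?_⟩
    rw [cosetVal_eq μ hm', cosetVal_eq μ hm,
      show (⟨_, hm'⟩ : ↥C) = k⁻¹ * ⟨_, hm⟩ * k from Subtype.ext e, map_mul, map_mul,
      mul_comm (μ k⁻¹), map_inv, inv_mul_cancel_right]
  set q₀ : G ⧸ C := ((1 : G) : G ⧸ C) with hq₀
  have hout : q₀.out ∈ C := by
    obtain ⟨k, hk⟩ := QuotientGroup.mk_out_eq_mul C (1 : G)
    rw [hq₀, hk, one_mul]
    exact k.2
  have hbase : ∀ c ∈ C, c • q₀ = q₀ := fun c hc =>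
    (smul_eq_iff_mem c q₀).2 (mul_mem (mul_mem (inv_mem hout) hc) hout)
  have hq₀S : q₀ ∈ S := (hS _).2 (hbase a ha)
  have hval : cosetVal μ a q₀ = μ ⟨a, ha⟩ := by
    rw [cosetVal_eq μ (mul_mem (mul_mem (inv_mem hout) ha) hout),
      show (⟨q₀.out⁻¹ * a * q₀.out, _⟩ : ↥C) = ⟨q₀.out, hout⟩⁻¹ * ⟨a, ha⟩ * ⟨q₀.out, hout⟩ from
        Subtype.ext rfl, map_mul, map_mul, mul_comm (μ _⁻¹), map_inv, inv_mul_cancel_right]
  -- parities
  have hpar : ∀ u : A, (S.filter fun q => cosetVal μ a q = u).card % 2 =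
      if u = μ ⟨a, ha⟩ then 1 else 0 := by
    intro u
    let U := {q : G ⧸ C // q ∈ S ∧ cosetVal μ a q = u}
    letI : MulAction ↥P U :=
      { smul := fun p q => ⟨(p : G) • q.1, (hsmul p p.2 q.1 q.2.1).1,
          (hsmul p p.2 q.1 q.2.1).2.trans q.2.2⟩
        one_smul := fun q => Subtype.ext (one_smul G q.1)
        mul_smul := fun p p' q => Subtype.ext (mul_smul (p : G) (p' : G) q.1) }
    have hmod := hP.card_modEq_card_fixedPoints U
    have hU : Nat.card U = (S.filter fun q => cosetVal μ a q = u).card := by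
      rw [Nat.card_eq_fintype_card, Fintype.card_subtype]
      congr 1
      ext q
      simp [U]
    have key : ∀ q : fixedPoints ↥P U, q.1.1 = q₀ := fun q =>
      hfix _ ((hS _).1 q.1.2.1) fun p hp => congrArg Subtype.val (q.2 ⟨p, hp⟩)
    have hF : Nat.card (fixedPoints ↥P U) = if u = μ ⟨a, ha⟩ then 1 else 0 := by
      split_ifs with hu
      · rw [Nat.card_eq_one_iff_unique]
        exact ⟨⟨fun x y => Subtype.ext (Subtype.ext ((key x).trans (key y).symm))⟩,
          ⟨⟨⟨q₀, hq₀S, hval.trans hu.symm⟩, fun p => Subtype.ext (hbase p (hPC p.2))⟩⟩⟩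
      · rw [Nat.card_eq_zero]
        refine Or.inl ⟨fun x => hu ?_⟩
        rw [← hval, ← key x, x.1.2.2]
    rw [← hU, hmod, hF]
    split_ifs <;> rfl
  have hsq : ∀ q ∈ S, cosetVal μ a q ^ 2 = 1 := by
    intro q hq
    have hm := (smul_eq_iff_mem a q).1 ((hS q).1 hq)
    rw [cosetVal_eq μ hm, ← map_pow, ← map_one μ]
    congr 1
    refine Subtype.ext ?_
    show (q.out⁻¹ * a * q.out) ^ 2 = 1
    rw [pow_two, show q.out⁻¹ * a * q.out * (q.out⁻¹ * a * q.out) = q.out⁻¹ * (a * a) * q.out by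
      group, h2, mul_one, inv_mul_cancel]
  rw [hprod, show (∏ q ∈ S, cosetVal μ a q) = ∏ q ∈ S, id (cosetVal μ a q) from rfl,
    Finset.prod_comp]
  rw [Finset.prod_eq_single (μ ⟨a, ha⟩)]
  · rw [id, ← Nat.div_add_mod (Finset.card _) 2, hpar, if_pos rfl, pow_add, pow_mul, pow_one,
      ← hval, hsq q₀ hq₀S, one_pow, one_mul]
  · intro u hu hne
    obtain ⟨q, hq, rfl⟩ := Finset.mem_image.1 hu
    rw [id, ← Nat.div_add_mod (Finset.card _) 2, hpar, if_neg hne, add_zero, pow_mul, hsq q hq,
      one_pow]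
  · intro h
    exact absurd (Finset.mem_image.2 ⟨q₀, hq₀S, hval⟩) h

end H72.Fi22C
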